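import Mathlib
import Groth.Prelude.Def_SymProd
import Groth.Agent.Lib.Helper9.Misc.ImmAff
import Groth.Agent.H4.QuotEx

/-!
# Box opens in fibre powers (lead)

For `f : X ⟶ S`, an affine open `V` of `S` and an affine open `U ≤ f⁻¹V` of `X`, the open
`b⁻¹V ⊓ ⋂ π_i⁻¹U` of the `d`-fold fibre power is affine (it is the `d`-fold fibre power of
`U → V`) and stable under the permutations of the factors.  Under (AF) every orbit of the
symmetric group lies in such a box (S13602), and the boxes descend to affine opens of a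
symmetric product (S13605).
-/

set_option autoImplicit false
universe u
open CategoryTheory CategoryTheory.Limits AlgebraicGeometry TopologicalSpace

namespace Groth.Agent.LD.SymP

/-- finitely many points of an affine open which lie in an open `O` lie in an affine open
contained in `O`. -/
theorem exists_affine_le {X : Scheme.{u}} {A : X.Opens} (hA : IsAffineOpen A) (O : X.Opens)
    (F : Finset X) (hFA : ∀ x ∈ F, x ∈ A) (hFO : ∀ x ∈ F, x ∈ O) :
    ∃ U : X.Opens, IsAffineOpen U ∧ U ≤ O ∧ ∀ x ∈ F, x ∈ U := by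
  classical
  haveI : IsAffine (A : Scheme.{u}) := hA
  let F' : Finset (A : Scheme.{u}) :=
    F.attach.image (fun x => ((⟨x.1, hFA x.1 x.2⟩ : ↥A) : (A : Scheme.{u})))
  have hF' : ∀ y ∈ F', y ∈ A.ι ⁻¹ᵁ O := by
    intro y hy
    obtain ⟨x, -, rfl⟩ := Finset.mem_image.mp hy
    exact hFO x.1 x.2
  obtain ⟨g, hg1, hg2⟩ :=
    Groth.Agent.H9.ImmAff.exists_basicOpen (Y := (A : Scheme.{u})) (A.ι ⁻¹ᵁ O) F' hF'
  refine ⟨A.ι ''ᵁ ((A : Scheme.{u}).basicOpen g), ?_, ?_, ?_⟩
  · exact ((isAffineOpen_top (A : Scheme.{u})).basicOpen g).image_of_isOpenImmersion A.ι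
  · intro y hy
    have hy' : y ∈ A.ι.base '' (((A : Scheme.{u}).basicOpen g : (A : Scheme.{u}).Opens) :
        Set (A : Scheme.{u})) := hy
    obtain ⟨z, hz, rfl⟩ := hy'
    exact hg1 hz
  · intro x hx
    have hz : ((⟨x, hFA x hx⟩ : ↥A) : (A : Scheme.{u})) ∈ (A : Scheme.{u}).basicOpen g :=
      hg2 _ (Finset.mem_image.mpr ⟨⟨x, hx⟩, Finset.mem_attach _ _, rfl⟩)
    exact ⟨_, hz, rfl⟩

variable {X S : Scheme.{u}} (f : X ⟶ S) (d : ℕ)

/-- the box open `b⁻¹V ⊓ ⋂ π_i⁻¹U` of the fibre power. -/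
noncomputable def box (V : S.Opens) (U : X.Opens) : (SymProd.fibPow f d).Opens :=
  (WidePullback.base (fun _ : Fin d => f)) ⁻¹ᵁ V ⊓
    ⨅ i : Fin d, (WidePullback.π (fun _ : Fin d => f) i) ⁻¹ᵁ U

theorem mem_box (V : S.Opens) (U : X.Opens) (x : ↥(SymProd.fibPow f d)) :
    x ∈ box f d V U ↔ (WidePullback.base (fun _ : Fin d => f)).base x ∈ V ∧
      ∀ i : Fin d, (WidePullback.π (fun _ : Fin d => f) i).base x ∈ U := by
  unfold box
  rw [← SetLike.mem_coe, Opens.coe_inf, Opens.coe_iInf, Set.mem_inter_iff, Set.mem_iInter]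
  rfl

theorem box_le_base (V : S.Opens) (U : X.Opens) :
    box f d V U ≤ (WidePullback.base (fun _ : Fin d => f)) ⁻¹ᵁ V := inf_le_left

theorem box_le_π (V : S.Opens) (U : X.Opens) (i : Fin d) :
    box f d V U ≤ (WidePullback.π (fun _ : Fin d => f) i) ⁻¹ᵁ U :=
  inf_le_right.trans (iInf_le _ i)

/-- the box of two affine opens is affine: it is a wide pullback of affine schemes. -/
theorem isAffineOpen_box {V : S.Opens} (hV : IsAffineOpen V) {U : X.Opens} (hU : IsAffineOpen U)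
    (hUV : U ≤ f ⁻¹ᵁ V) : IsAffineOpen (box f d V U) := by
  obtain ⟨W, hW⟩ : ∃ W : (SymProd.fibPow f d).Opens, W = box f d V U := ⟨_, rfl⟩
  rw [← hW]
  have hWb : W ≤ (WidePullback.base (fun _ : Fin d => f)) ⁻¹ᵁ V := hW ▸ box_le_base f d V U
  have hWπ : ∀ i : Fin d, W ≤ (WidePullback.π (fun _ : Fin d => f) i) ⁻¹ᵁ U :=
    fun i => hW ▸ box_le_π f d V U i
  let bW : (W : Scheme.{u}) ⟶ (V : Scheme.{u}) :=
    (WidePullback.base (fun _ : Fin d => f)).resLE V W hWb
  let pW : ∀ i : Fin d, (W : Scheme.{u}) ⟶ (U : Scheme.{u}) :=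
    fun i => (WidePullback.π (fun _ : Fin d => f) i).resLE U W (hWπ i)
  let fU : (U : Scheme.{u}) ⟶ (V : Scheme.{u}) := f.resLE V U hUV
  have hfU : fU ≫ V.ι = U.ι ≫ f := Scheme.Hom.resLE_comp_ι f hUV
  have hbW : bW ≫ V.ι = W.ι ≫ WidePullback.base (fun _ : Fin d => f) :=
    Scheme.Hom.resLE_comp_ι _ hWb
  have hpW : ∀ i, pW i ≫ U.ι = W.ι ≫ WidePullback.π (fun _ : Fin d => f) i :=
    fun i => Scheme.Hom.resLE_comp_ι _ (hWπ i)
  have hw : ∀ i, pW i ≫ fU = bW := by
    intro i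
    rw [← cancel_mono V.ι, Category.assoc, hfU, ← Category.assoc, hpW i, Category.assoc,
      WidePullback.π_arrow, hbW]
  let c : WidePullbackCone (fun _ : Fin d => fU) := WidePullbackCone.mk bW pW hw
  -- the lift of a cone
  have key : ∀ t : WidePullbackCone (fun _ : Fin d => fU), ∃ l : t.pt ⟶ (W : Scheme.{u}),
      l ≫ W.ι ≫ WidePullback.base (fun _ : Fin d => f) = t.base ≫ V.ι ∧
      ∀ i, l ≫ W.ι ≫ WidePullback.π (fun _ : Fin d => f) i = t.π i ≫ U.ι := by
    intro t
    have hti : ∀ i, t.π i ≫ fU = t.base := fun i => t.condition i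
    have hwt : ∀ i : Fin d, (t.π i ≫ U.ι) ≫ f = t.base ≫ V.ι := by
      intro i
      rw [Category.assoc, ← hfU, ← Category.assoc, hti i]
    let g : t.pt ⟶ SymProd.fibPow f d :=
      WidePullback.lift (t.base ≫ V.ι) (fun i => t.π i ≫ U.ι) hwt
    have hgb : g ≫ WidePullback.base (fun _ : Fin d => f) = t.base ≫ V.ι :=
      WidePullback.lift_base _ _ _ _
    have hgπ : ∀ i, g ≫ WidePullback.π (fun _ : Fin d => f) i = t.π i ≫ U.ι :=
      fun i => WidePullback.lift_π _ _ _ _ i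
    have hrange : Set.range g ⊆ Set.range W.ι := by
      rw [Scheme.Opens.range_ι]
      rintro _ ⟨y, rfl⟩
      rw [SetLike.mem_coe, hW, mem_box]
      refine ⟨?_, fun i => ?_⟩
      · have h1 : (WidePullback.base (fun _ : Fin d => f)).base (g.base y) =
            V.ι.base (t.base.base y) := by
          rw [← Scheme.Hom.comp_apply, hgb, Scheme.Hom.comp_apply]
        rw [h1]
        exact (t.base.base y).2
      · have h1 : (WidePullback.π (fun _ : Fin d => f) i).base (g.base y) =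
            U.ι.base ((t.π i).base y) := by
          rw [← Scheme.Hom.comp_apply, hgπ i, Scheme.Hom.comp_apply]
        rw [h1]
        exact ((t.π i).base y).2
    refine ⟨IsOpenImmersion.lift W.ι g hrange, ?_, fun i => ?_⟩
    · rw [← Category.assoc, IsOpenImmersion.lift_fac, hgb]
    · rw [← Category.assoc, IsOpenImmersion.lift_fac, hgπ i]
  choose l hlb hlπ using key
  have hc : IsLimit c := by
    refine WidePullbackCone.IsLimit.mk c l (fun t => ?_) (fun t i => ?_) (fun t m hmb hmπ => ?_)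
    · show l t ≫ bW = t.base
      rw [← cancel_mono V.ι, Category.assoc, hbW, hlb t]
    · show l t ≫ pW i = t.π i
      rw [← cancel_mono U.ι, Category.assoc, hpW i, hlπ t i]
    · have hmb' : m ≫ bW = t.base := hmb
      have hmπ' : ∀ i, m ≫ pW i = t.π i := hmπ
      refine (cancel_mono W.ι).mp ?_
      apply WidePullback.hom_ext
      · intro i
        rw [Category.assoc, Category.assoc, hlπ t i, ← hpW i, ← Category.assoc]
        exact congrArg (fun k => k ≫ U.ι) (hmπ' i)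
      · rw [Category.assoc, Category.assoc, hlb t, ← hbW, ← Category.assoc]
        exact congrArg (fun k => k ≫ V.ι) hmb'
  haveI : ∀ i, IsAffine ((WidePullbackShape.wideCospan (V : Scheme.{u})
      (fun _ : Fin d => (U : Scheme.{u})) (fun _ => fU)).obj i) := by
    rintro (_ | i)
    · exact hV
    · exact hU
  exact Scheme.isAffine_of_isLimit c hc

/-- the box is stable under the permutations of the factors. -/
theorem permHom_preimage_box (V : S.Opens) (U : X.Opens) (σ : Equiv.Perm (Fin d)) :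
    (SymProd.permHom f d σ) ⁻¹ᵁ box f d V U = box f d V U := by
  ext z
  have h0 : z ∈ (SymProd.permHom f d σ) ⁻¹ᵁ box f d V U ↔
      (SymProd.permHom f d σ).base z ∈ box f d V U := Iff.rfl
  rw [SetLike.mem_coe, SetLike.mem_coe, h0, mem_box, mem_box]
  have h1 : (WidePullback.base (fun _ : Fin d => f)).base ((SymProd.permHom f d σ).base z) =
      (WidePullback.base (fun _ : Fin d => f)).base z := by
    rw [← Scheme.Hom.comp_apply, SymProd.permHom_base]
  have h2 : ∀ i, (WidePullback.π (fun _ : Fin d => f) i).base ((SymProd.permHom f d σ).base z) =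
      (WidePullback.π (fun _ : Fin d => f) (σ.symm i)).base z := by
    intro i
    rw [← Scheme.Hom.comp_apply, SymProd.permHom_π]
  rw [h1]
  constructor
  · rintro ⟨hb, hπ⟩
    refine ⟨hb, fun i => ?_⟩
    have := hπ (σ i)
    rw [h2, Equiv.symm_apply_apply] at this
    exact this
  · rintro ⟨hb, hπ⟩
    refine ⟨hb, fun i => ?_⟩
    rw [h2]
    exact hπ _

/-- under (AF), the components of a point of the fibre power lie in an affine open of `X`
mapping into a given affine open of `S` containing the image of the point. -/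
theorem exists_affine_of_isAF (hAF : SymProd.IsAF f) (x : ↥(SymProd.fibPow f d)) {V : S.Opens}
    (hxV : (WidePullback.base (fun _ : Fin d => f)).base x ∈ V) :
    ∃ U : X.Opens, IsAffineOpen U ∧ U ≤ f ⁻¹ᵁ V ∧
      ∀ i : Fin d, (WidePullback.π (fun _ : Fin d => f) i).base x ∈ U := by
  classical
  let T : Finset X :=
    Finset.univ.image (fun i : Fin d => (WidePullback.π (fun _ : Fin d => f) i).base x)
  have hT : ∀ y ∈ T, f.base y = (WidePullback.base (fun _ : Fin d => f)).base x := by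
    intro y hy
    obtain ⟨i, -, rfl⟩ := Finset.mem_image.mp hy
    rw [← Scheme.Hom.comp_apply, WidePullback.π_arrow]
  obtain ⟨A, hA, hTA⟩ := hAF _ T hT
  obtain ⟨U, hU, hUO, hTU⟩ := exists_affine_le hA (f ⁻¹ᵁ V) T hTA (fun y hy => by
    show f.base y ∈ V
    rw [hT y hy]
    exact hxV)
  exact ⟨U, hU, hUO, fun i => hTU _ (Finset.mem_image.mpr ⟨i, Finset.mem_univ _, rfl⟩)⟩

/-- **S13602**. -/
theorem s13602 (hAF : SymProd.IsAF f) (x : ↥(SymProd.fibPow f d)) :
    ∃ U : (SymProd.fibPow f d).Opens, IsAffineOpen U ∧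
      ∀ σ : Equiv.Perm (Fin d), (SymProd.permHom f d σ).base x ∈ U := by
  obtain ⟨V, hV, hxV⟩ : ∃ V : S.Opens, IsAffineOpen V ∧
      (WidePullback.base (fun _ : Fin d => f)).base x ∈ V := by
    have hx : (WidePullback.base (fun _ : Fin d => f)).base x ∈
        (⨆ V : S.affineOpens, (V : S.Opens)) := by
      rw [iSup_affineOpens_eq_top]
      trivial
    obtain ⟨V, hxV⟩ := Opens.mem_iSup.mp hx
    exact ⟨V.1, V.2, hxV⟩
  obtain ⟨U, hU, hUV, hxU⟩ := exists_affine_of_isAF f d hAF x hxV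
  refine ⟨box f d V U, isAffineOpen_box f d hV hU hUV, fun σ => ?_⟩
  have hx : x ∈ box f d V U := (mem_box f d V U x).mpr ⟨hxV, hxU⟩
  have h0 : x ∈ (SymProd.permHom f d σ) ⁻¹ᵁ box f d V U := by
    rw [permHom_preimage_box]
    exact hx
  exact h0

/-- an open of the quotient by a finite group with affine preimage is affine
(copy of helper4's `NormD.isAffineOpen_of_preimage`). -/
theorem isAffineOpen_of_preimage {P Y : Scheme.{u}} {G : Type u} [Group G] [Finite G]
    {ρ : G →* Aut P} {q : P ⟶ Y} (hq : SGA1.IsQuot ρ q) (W : Y.Opens)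
    (h1 : IsAffineOpen (q ⁻¹ᵁ W)) : IsAffineOpen W := by
  have h2 := Groth.Agent.H4.QuotKit.main_S13606 ρ q hq W
    (Groth.Agent.H4.QuotFin.resAct ρ (q ⁻¹ᵁ W)
      (fun g => SGA1.preimage_le_of_inv ρ q hq.inv g _))
    (Groth.Agent.H4.QuotFin.resAct_ι ρ _ _)
  haveI : IsAffine (q ⁻¹ᵁ W).toScheme := h1
  exact Groth.Agent.H4.QuotFin.isAffine_of_isQuot _ _ h2

/-- **S13605**. -/
theorem s13605 {Y : Scheme.{u}} (hAF : SymProd.IsAF f)
    (𝒮 : Set S.Opens) (h𝒮 : ∀ V ∈ 𝒮, IsAffineOpen V) (hcov : ∀ s : S, ∃ V ∈ 𝒮, s ∈ V)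
    (hd : 0 < d) (q : SymProd.fibPow f d ⟶ Y) (g : Y ⟶ S) (hq : SymProd.IsSymProd f d q g)
    (y : Y) :
    ∃ V ∈ 𝒮, ∃ U : X.Opens, IsAffineOpen U ∧ U ≤ f ⁻¹ᵁ V ∧
      ∃ W : (SymProd.fibPow f d).Opens,
        (W : Set ↥(SymProd.fibPow f d)) =
          ⋂ i : Fin d, (WidePullback.π (fun _ : Fin d => f) i).base ⁻¹' (U : Set X) ∧
        IsAffineOpen W ∧ (∀ σ : Equiv.Perm (Fin d), (SymProd.permHom f d σ) ⁻¹ᵁ W = W) ∧
        ∃ W' : Y.Opens, y ∈ W' ∧ IsAffineOpen W' ∧ q ⁻¹ᵁ W' = W := by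
  have hquot : SGA1.IsQuot (SymProd.permActU f d) q := hq.isQuot
  obtain ⟨x, hxy⟩ := (Groth.Agent.H4.QuotEx.isQuotientMap_of_isQuot hquot).surjective y
  obtain ⟨V, hV𝒮, hxV⟩ := hcov ((WidePullback.base (fun _ : Fin d => f)).base x)
  obtain ⟨U, hU, hUV, hxU⟩ := exists_affine_of_isAF f d hAF x hxV
  have hx : x ∈ box f d V U := (mem_box f d V U x).mpr ⟨hxV, hxU⟩
  have hO : ∀ γ : ULift.{u} (Equiv.Perm (Fin d)),
      box f d V U ≤ ((SymProd.permActU f d γ).hom) ⁻¹ᵁ box f d V U := by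
    intro γ
    have h1 : ((SymProd.permActU f d γ).hom) ⁻¹ᵁ box f d V U = box f d V U :=
      permHom_preimage_box f d V U γ.down
    rw [h1]
  refine ⟨V, hV𝒮, U, hU, hUV, box f d V U, ?_, isAffineOpen_box f d (h𝒮 V hV𝒮) hU hUV,
    permHom_preimage_box f d V U, Groth.Agent.H4.QuotEx.imOpen hquot (box f d V U) hO,
    ⟨x, hx, hxy⟩, ?_, Groth.Agent.H4.QuotEx.preimage_imOpen hquot _ hO⟩
  · ext z
    rw [SetLike.mem_coe, mem_box, Set.mem_iInter]
    constructor
    · rintro ⟨-, hπ⟩ i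
      exact hπ i
    · intro hπ
      refine ⟨?_, fun i => hπ i⟩
      have h1 : (WidePullback.base (fun _ : Fin d => f)).base z =
          f.base ((WidePullback.π (fun _ : Fin d => f) ⟨0, hd⟩).base z) := by
        rw [← Scheme.Hom.comp_apply, WidePullback.π_arrow]
      rw [h1]
      exact hUV (hπ ⟨0, hd⟩)
  · apply isAffineOpen_of_preimage hquot
    rw [Groth.Agent.H4.QuotEx.preimage_imOpen hquot _ hO]
    exact isAffineOpen_box f d (h𝒮 V hV𝒮) hU hUV

end Groth.Agent.LD.SymP
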